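import Groth.Agent.BrauerXPoint.Lift
import Groth.Agent.GalEt.PushTorsion
import Groth.Agent.GalEt.Torsion
import Groth.Agent.GalEt.ConstSeq
import Groth.Agent.EtPBC63.Torsion
import Groth.Agent.EtFound.PullStalk
import Mathlib.CategoryTheory.Abelian.RightDerived

/-!
# `R^q i_*` of a sheaf on a point is torsion
-/

universe u

open CategoryTheory CategoryTheory.Limits AlgebraicGeometry Opposite CategoryTheory.Abelian

namespace Groth.Agent.BrauerXPoint

open Groth.Agent.GalEt

set_option backward.isDefEq.respectTransparency.types false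

variable {k : Type u} [Field k] {X : Scheme.{u}} (i : Spec (CommRingCat.of k) ⟶ X) [QuasiCompact i]

instance compact_bc (U : X.Etale) [CompactSpace U.left] : CompactSpace ((EtCoh.bc i).obj U).left := by
  have h : QuasiCompact (pullback.fst U.hom i) :=
    MorphismProperty.pullback_fst (P := @QuasiCompact) U.hom i ‹_›
  exact @QuasiCompact.compactSpace_of_compactSpace _ _ (pullback.fst U.hom i) h ‹CompactSpace U.left›

/-- the cokernel of the direct image of an epimorphism is torsion -/
theorem isTorsion_cokernel_push_map {I G : EtCoh.Ab (Spec (CommRingCat.of k))} (g : I ⟶ G) [Epi g] :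
    EtCoh.IsTorsion (cokernel ((EtCoh.push i).map g)) := by
  intro U s x
  let π' := cokernel.π ((EtCoh.push i).map g)
  haveI := (Sheaf.isLocallySurjective_iff_epi' _ π').2 inferInstance
  obtain ⟨V, h, v, ⟨t₀, ht₀⟩, hv⟩ := (EtFound.mem_topology_iff _).1
    (Presheaf.imageSieve_mem X.smallEtaleTopology π'.hom (U := op U) s) x
  obtain ⟨W, hW, hvW, -⟩ := exists_isAffineOpen_mem_and_subset (TopologicalSpace.Opens.mem_top v)
  let V' := EtFound.restrictEtale V W
  let r : V' ⟶ V := EtFound.restrictEtaleHom V W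
  haveI : IsAffine V'.left := hW
  refine ⟨V', r ≫ h, ⟨⟨v, hvW⟩, ?_⟩, ?_⟩
  · exact (Scheme.Hom.comp_apply W.ι h.left _).trans hv
  let t := ((EtCoh.push i).obj G).obj.map r.op t₀
  obtain ⟨N, hN, w, hw⟩ := exists_nsmul_lift_compact ((EtCoh.bc i).obj V') g t
  refine isOfFinAddOrder_iff_nsmul_eq_zero.2 ⟨N, hN, ?_⟩
  have ht : π'.hom.app (op V') t = (cokernel ((EtCoh.push i).map g)).obj.map (r ≫ h).op s := by
    refine (NatTrans.naturality_apply π'.hom r.op t₀).trans ?_
    rw [ht₀, hom_comp_map]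
  rw [← ht]
  refine (map_nsmul (π'.hom.app (op V')).hom N t).symm.trans ((congrArg (π'.hom.app (op V')) hw.symm).trans ?_)
  exact congrArg (fun m : (EtCoh.push i).obj I ⟶ cokernel ((EtCoh.push i).map g) => m.hom.app (op V') w)
    (cokernel.condition ((EtCoh.push i).map g))

omit [QuasiCompact i] in
theorem nonempty_homology_map_iso (F : EtCoh.Ab (Spec (CommRingCat.of k)) ⥤ EtCoh.Ab X) [F.Additive]
    [PreservesFiniteLimits F] (S : ShortComplex (EtCoh.Ab (Spec (CommRingCat.of k)))) :
    Nonempty ((S.map F).homology ≅ cokernel (F.map S.toCycles)) := by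
  let hi : IsLimit (KernelFork.ofι (F.map S.iCycles)
      (by rw [← F.map_comp, S.iCycles_g, F.map_zero] : F.map S.iCycles ≫ F.map S.g = 0)) :=
    KernelFork.mapIsLimit _ S.cyclesIsKernel F
  have hlift : hi.lift (KernelFork.ofι (S.map F).f (S.map F).zero) = F.map S.toCycles :=
    Fork.IsLimit.hom_ext hi ((Fork.IsLimit.lift_ι hi).trans
      (by exact ((F.map_comp _ _).symm.trans (congrArg F.map S.toCycles_i)).symm))
  let h : (S.map F).LeftHomologyData :=
    { K := F.obj S.cycles
      H := cokernel (F.map S.toCycles)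
      i := F.map S.iCycles
      π := cokernel.π _
      wi := by exact (F.map_comp _ _).symm.trans ((congrArg F.map S.iCycles_g).trans (F.map_zero _ _))
      hi := hi
      wπ := (congrArg (· ≫ cokernel.π (F.map S.toCycles)) hlift).trans (cokernel.condition _)
      hπ := CokernelCofork.IsColimit.ofπ _ _
        (fun a ha => cokernel.desc _ a ((congrArg (· ≫ a) hlift).symm.trans ha)) (fun a ha => cokernel.π_desc _ _ _)
        (fun a ha b hb => coequalizer.hom_ext (hb.trans (cokernel.π_desc _ _ _).symm)) }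
  exact ⟨h.homologyIso⟩

/-- `R^q i_* F` is torsion for `q ≥ 1` -/
theorem isTorsion_Rpush (F : EtCoh.Ab (Spec (CommRingCat.of k))) (n : ℕ) :
    EtCoh.IsTorsion ((EtCoh.Rpush i (n + 1)).obj F) := by
  let R := injectiveResolution F
  let S := R.cocomplex.sc (n + 1)
  haveI : (EtCoh.push i).IsRightAdjoint := (EtCoh.pullPushAdj i).isRightAdjoint
  obtain ⟨e⟩ := nonempty_homology_map_iso (EtCoh.push i) S
  haveI : Epi S.toCycles := S.exact_iff_epi_toCycles.1 (R.cocomplex_exactAt_succ n)
  exact isTorsion_of_iso (e.symm ≪≫ (R.isoRightDerivedObj (EtCoh.push i) (n + 1)).symm)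
    (isTorsion_cokernel_push_map i S.toCycles)

variable [CompactSpace X] [QuasiSeparatedSpace X]

omit [CompactSpace X] [QuasiSeparatedSpace X] [QuasiCompact i] in
/-- the two short exact sequences cut out of `0 → i_*F → i_*I → i_*G` -/
theorem mono_push_f (F : EtCoh.Ab (Spec (CommRingCat.of k))) :
    ((EtMVLib.injSES F).map (EtCoh.push i)).Exact ∧ Mono ((EtMVLib.injSES F).map (EtCoh.push i)).f := by
  haveI : (EtCoh.push i).IsRightAdjoint := (EtCoh.pullPushAdj i).isRightAdjoint
  exact ((Functor.preservesFiniteLimits_tfae (EtCoh.push i)).out 3 0 rfl rfl).1 inferInstance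
    (EtMVLib.injSES F) (EtMVLib.injSES_shortExact F)

set_option maxHeartbeats 1000000 in
/-- `H^n(X, i_* F)` is torsion for `n ≥ 1` -/
theorem isAddTorsion_H_push (F : EtCoh.Ab (Spec (CommRingCat.of k))) (n : ℕ) :
    IsAddTorsion (EtCoh.H X ((EtCoh.push i).obj F) (n + 1)) := by
  induction n using Nat.strong_induction_on generalizing F with
  | _ n ih =>
  intro α
  let L : EtCoh.Ab X := EtCoh.const X ℤ
  change IsOfFinAddOrder (α : Ext L ((EtCoh.push i).obj F) (n + 1))
  obtain ⟨hex, hmono⟩ := mono_push_f i F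
  let E := EtMVLib.injSES F
  let φ := (EtCoh.push i).map E.g
  let ι := kernel.ι (cokernel.π φ)
  let τ : (EtCoh.push i).obj E.X₂ ⟶ kernel (cokernel.π φ) := kernel.lift _ φ (cokernel.condition φ)
  have hτι : τ ≫ ι = φ := kernel.lift_ι _ _ _
  have hτ : Epi τ := inferInstanceAs (Epi (Abelian.factorThruImage φ))
  have h0 : (EtCoh.push i).map E.f ≫ τ = 0 := by
    rw [← cancel_mono ι, Category.assoc, hτι, zero_comp]
    exact (E.map (EtCoh.push i)).zero
  let S₁ := ShortComplex.mk ((EtCoh.push i).map E.f) τ h0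
  have hS₁ : S₁.ShortExact :=
    { exact := by
        let f : S₁ ⟶ E.map (EtCoh.push i) :=
          { τ₁ := 𝟙 _
            τ₂ := 𝟙 _
            τ₃ := ι
            comm₁₂ := (Category.id_comp _).trans (Category.comp_id _).symm
            comm₂₃ := (Category.id_comp _).trans hτι.symm }
        haveI : Epi f.τ₁ := inferInstanceAs (Epi (𝟙 _))
        haveI : IsIso f.τ₂ := inferInstanceAs (IsIso (𝟙 _))
        haveI : Mono f.τ₃ := inferInstanceAs (Mono ι)
        exact (ShortComplex.exact_iff_of_epi_of_isIso_of_mono f).2 hex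
      mono_f := hmono
      epi_g := hτ }
  let S₂ := ShortComplex.mk ι (cokernel.π φ) (kernel.condition _)
  have hS₂ : S₂.ShortExact := { exact := ShortComplex.exact_of_f_is_kernel _ (kernelIsKernel _) }
  haveI : Injective S₁.X₂ := by
    haveI := EtFound.pull_preservesFiniteLimits i
    haveI : Injective E.X₂ := inferInstanceAs (Injective (Injective.under F))
    exact Injective.injective_of_adjoint (EtCoh.pullPushAdj i) E.X₂
  obtain ⟨β, hβ⟩ := Ext.covariant_sequence_exact₁ (X := L) hS₁ α (Ext.eq_zero_of_injective _) rfl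
  have key : ∀ m : ℕ, 0 < m → (m • β).comp hS₁.extClass rfl = 0 →
      IsOfFinAddOrder (α : Ext L ((EtCoh.push i).obj F) (n + 1)) := fun m hm h => by
    refine isOfFinAddOrder_iff_nsmul_eq_zero.2 ⟨m, hm, ?_⟩
    rw [← hβ]
    exact (map_nsmul ((hS₁.extClass.postcomp L (rfl : n + 1 = n + 1))) m β).symm.trans h
  cases n with
  | zero =>
    obtain ⟨y, rfl⟩ := (Ext.mk₀_bijective _ _).2 β
    let adj := EtCore.constAdj X
    let s : ((EtCoh.push i).obj E.X₃).obj.obj (op (EtCoh.top X)) :=
      (adj.homEquiv _ _ (y ≫ ι)).hom (ULift.up 1)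
    haveI : Epi E.g := (EtMVLib.injSES_shortExact F).epi_g
    haveI : CompactSpace (EtCoh.top X).left := inferInstanceAs (CompactSpace X)
    obtain ⟨N, hN, w, hw⟩ := exists_nsmul_lift_compact ((EtCoh.bc i).obj (EtCoh.top X)) E.g s
    let ψ : L ⟶ (EtCoh.push i).obj E.X₂ :=
      (adj.homEquiv _ _).symm (AddCommGrpCat.ofHom ((zmultiplesHom _ w).comp AddEquiv.ulift.toAddMonoidHom))
    have hψ : ψ ≫ φ = (N • y) ≫ ι := by
      haveI : (constantSheaf X.smallEtaleTopology AddCommGrpCat.{u + 1}).Additive :=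
        inferInstanceAs (GalEt.constF X).Additive
      apply (adj.homEquiv _ _).injective
      rw [Adjunction.homEquiv_naturality_right, Preadditive.nsmul_comp, ← Adjunction.homAddEquiv_apply adj,
        ← Adjunction.homAddEquiv_apply adj, map_nsmul]
      simp only [Adjunction.homAddEquiv_apply, ψ, Equiv.apply_symm_apply]
      apply AddCommGrpCat.ext
      intro x
      have hx : x = x.down • (ULift.up 1 : ULift.{u + 1} ℤ) := ULift.ext _ _ (by simp)
      rw [hx, map_zsmul, map_zsmul]
      congr 1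
      show ((EtCoh.push i).map E.g).hom.app (op (EtCoh.top X)) ((1 : ℤ) • w) = N • s
      rw [one_zsmul]
      exact hw
    have hψ' : ψ ≫ τ = N • y := by rw [← cancel_mono ι, Category.assoc, hτι, hψ]
    refine key N hN ?_
    rw [show N • Ext.mk₀ y = Ext.mk₀ (N • y) from (map_nsmul (Ext.addEquiv₀ (X := L)).symm N y).symm, ← hψ', ← Ext.mk₀_comp_mk₀, Ext.comp_assoc_of_second_deg_zero, hS₁.comp_extClass]
    exact Ext.comp_zero _ _ _ _ rfl
  | succ n =>
    obtain ⟨m, hm, hγ⟩ := isOfFinAddOrder_iff_nsmul_eq_zero.1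
      (ih n n.lt_succ_self E.X₃ (β.comp (Ext.mk₀ ι) (add_zero (n + 1)) : Ext L _ (n + 1)))
    obtain ⟨r, hr⟩ := Ext.covariant_sequence_exact₁ (X := L) hS₂ (m • β)
      ((map_nsmul ((Ext.mk₀ ι).postcomp L (add_zero (n + 1))) m β).trans hγ) rfl
    obtain ⟨m', hm', hr'⟩ := isOfFinAddOrder_iff_nsmul_eq_zero.1
      (EtPBC63.isAddTorsion_H _ ((haveI := (EtMVLib.injSES_shortExact F).epi_g; isTorsion_cokernel_push_map i E.g)) n
        (r : Ext L _ n))
    refine key (m' * m) (Nat.mul_pos hm' hm) ?_
    have : (m' * m) • β = 0 := by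
      rw [mul_nsmul', ← hr]
      exact (map_nsmul (hS₂.extClass.postcomp L (rfl : n + 1 = n + 1)) m' r).symm.trans
        ((congrArg _ hr').trans (map_zero _))
    rw [this, Ext.zero_comp]

end Groth.Agent.BrauerXPoint
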