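import Groth.Agent.BigSiteLib.HofPushEt
import Groth.Agent.EtFound.PullStalk
import Groth.Agent.EtMVLib.HpullApply

/-!
# Injectivity of the edge maps in degrees one and two
-/

set_option autoImplicit false

universe w v v' u u'

open CategoryTheory CategoryTheory.Limits CategoryTheory.Abelian

namespace Groth.Agent.BrauerXPoint

open Groth.Agent.BigSiteLib.HofBij

variable {A : Type u} [Category.{v} A] [Abelian A] [EnoughInjectives A] [HasExt.{w} A]
  {B : Type u'} [Category.{v'} B] [Abelian B] [HasExt.{w} B]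
  {L : B ⥤ A} {R : A ⥤ B} [L.Additive] [R.Additive] [PreservesFiniteLimits L] [PreservesFiniteColimits L]
  [PreservesFiniteLimits R]
  (adj : L ⊣ R) {ZA : A} {ZB : B} (i : ZA ⟶ L.obj ZB)

theorem hof_zero (F : A) (p : ℕ) : hof adj i F p (0 : Ext.{w} ZB (R.obj F) p) = 0 :=
  map_zero (AddMonoidHom.mk' (hof adj i F p) (hof_add adj i F p))

/-- the edge map in degree one is injective -/
theorem hof_injective_one [IsIso i] (F : A) : Function.Injective (hof adj i F 1) := by
  suffices h : ∀ x, hof adj i F 1 x = 0 → x = 0 from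
    (injective_iff_map_eq_zero (AddMonoidHom.mk' (hof adj i F 1) (hof_add adj i F 1))).2 h
  intro x hx
  let P := Classical.arbitrary (InjectivePresentation F)
  have hS := P.shortExact_shortComplex
  let S := P.shortComplex
  haveI : Injective S.X₂ := P.injective
  haveI : Injective (R.obj S.X₂) := Injective.injective_of_adjoint adj _
  obtain ⟨hex, hmono⟩ := ((Functor.preservesFiniteLimits_tfae R).out 3 0 rfl rfl).1 inferInstance S hS
  let φ := R.map S.g
  let ι := kernel.ι (cokernel.π φ)
  let τ : R.obj S.X₂ ⟶ kernel (cokernel.π φ) := kernel.lift _ φ (cokernel.condition φ)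
  have hτι : τ ≫ ι = φ := kernel.lift_ι _ _ _
  have h0 : R.map S.f ≫ τ = 0 := by
    rw [← cancel_mono ι, Category.assoc, hτι, zero_comp]
    exact (S.map R).zero
  let S₁ := ShortComplex.mk (R.map S.f) τ h0
  have hS₁ : S₁.ShortExact :=
    { exact := by
        let f : S₁ ⟶ S.map R :=
          { τ₁ := 𝟙 _
            τ₂ := 𝟙 _
            τ₃ := ι
            comm₁₂ := (Category.id_comp _).trans (Category.comp_id _).symm
            comm₂₃ := (Category.id_comp _).trans hτι.symm }
        haveI : Epi f.τ₁ := inferInstanceAs (Epi (𝟙 _))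
        haveI : IsIso f.τ₂ := inferInstanceAs (IsIso (𝟙 _))
        haveI : Mono f.τ₃ := inferInstanceAs (Mono ι)
        exact (ShortComplex.exact_iff_of_epi_of_isIso_of_mono f).2 hex
      mono_f := hmono
      epi_g := inferInstanceAs (Epi (Abelian.factorThruImage φ)) }
  haveI : Injective S₁.X₂ := ‹Injective (R.obj S.X₂)›
  obtain ⟨y, hy⟩ := Ext.covariant_sequence_exact₁ (X := ZB) hS₁ x (Ext.eq_zero_of_injective _) rfl
  obtain ⟨y, rfl⟩ := (Ext.mk₀_bijective _ _).2 y
  subst hy
  let c : L.obj (kernel (cokernel.π φ)) ⟶ S.X₃ := (adj.homEquiv _ _).symm ι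
  have hn : (hS₁.extClass.mapExactFunctor L).comp (Ext.mk₀ (adj.counit.app S.X₁)) (add_zero 1) =
      (Ext.mk₀ c).comp hS.extClass (zero_add 1) :=
    (congrArg (fun t => Ext.comp t (Ext.mk₀ (adj.counit.app S.X₁)) (add_zero 1)) (Ext.mapExactFunctor_extClass L hS₁)).trans
      (ShortComplex.ShortExact.extClass_naturality (hS₁.map_of_exact L) hS
        ({ τ₁ := adj.counit.app S.X₁, τ₂ := adj.counit.app S.X₂, τ₃ := c
           comm₁₂ := (adj.counit.naturality S.f).symm
           comm₂₃ := by
             show adj.counit.app S.X₂ ≫ S.g = L.map τ ≫ c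
             simp only [c, Adjunction.homEquiv_counit]
             rw [← Category.assoc, ← L.map_comp, hτι]
             exact (adj.counit.naturality S.g).symm } :
          S₁.map L ⟶ S))
  have e : hof adj i F 1 ((Ext.mk₀ y).comp hS₁.extClass (zero_add 1)) =
      (Ext.mk₀ (i ≫ L.map y ≫ c)).comp hS.extClass (zero_add 1) := by
    show ((Ext.mk₀ i).comp (((Ext.mk₀ y).comp hS₁.extClass (zero_add 1)).mapExactFunctor L) (zero_add 1)).comp
      (Ext.mk₀ (adj.counit.app S.X₁)) (add_zero 1) = _
    simp only [Ext.mapExactFunctor_comp, Ext.mapExactFunctor_mk₀, Ext.comp_assoc_of_third_deg_zero, hn,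
      Ext.mk₀_comp_mk₀_assoc, Category.assoc]
  rw [e] at hx
  obtain ⟨z, hz⟩ := Ext.covariant_sequence_exact₃ ZA hS (Ext.mk₀ (i ≫ L.map y ≫ c)) (n₁ := 1) rfl hx
  obtain ⟨z, rfl⟩ := (Ext.mk₀_bijective _ _).2 z
  rw [Ext.mk₀_comp_mk₀] at hz
  have hz' : z ≫ S.g = i ≫ L.map y ≫ c := (Ext.mk₀_bijective _ _).1 hz
  let w := adj.homEquiv _ _ (inv i ≫ z)
  have hw : w ≫ τ = y := by
    rw [← cancel_mono ι, Category.assoc, hτι]
    show adj.homEquiv _ _ (inv i ≫ z) ≫ R.map S.g = y ≫ ι
    rw [← Adjunction.homEquiv_naturality_right, Category.assoc, hz', IsIso.inv_hom_id_assoc,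
      Adjunction.homEquiv_naturality_left, Equiv.apply_symm_apply]
  rw [← hw, ← Ext.mk₀_comp_mk₀, Ext.comp_assoc_of_second_deg_zero, hS₁.comp_extClass]
  exact Ext.comp_zero _ _ _ _ rfl

/-- the edge map in degree two is injective if the first higher direct image vanishes -/
theorem hof_injective_two [IsIso i] (F : A) (P : InjectivePresentation F)
    (hP : Epi (R.map P.shortComplex.g)) : Function.Injective (hof adj i F 2) := by
  suffices h : ∀ x, hof adj i F 2 x = 0 → x = 0 from
    (injective_iff_map_eq_zero (AddMonoidHom.mk' (hof adj i F 2) (hof_add adj i F 2))).2 h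
  intro x hx
  have hS := P.shortExact_shortComplex
  let S := P.shortComplex
  haveI : Injective S.X₂ := P.injective
  obtain ⟨hex, hmono⟩ := ((Functor.preservesFiniteLimits_tfae R).out 3 0 rfl rfl).1 inferInstance S hS
  have hS' : (S.map R).ShortExact := { exact := hex, mono_f := hmono, epi_g := hP }
  haveI : Injective (S.map R).X₂ := Injective.injective_of_adjoint adj S.X₂
  obtain ⟨y, hy⟩ := Ext.covariant_sequence_exact₁ (X := ZB) hS' x (Ext.eq_zero_of_injective _) rfl
  subst hy
  have hn : (hS'.extClass.mapExactFunctor L).comp (Ext.mk₀ (adj.counit.app S.X₁)) (add_zero 1) =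
      (Ext.mk₀ (adj.counit.app S.X₃)).comp hS.extClass (zero_add 1) :=
    (congrArg (fun t => Ext.comp t (Ext.mk₀ (adj.counit.app S.X₁)) (add_zero 1)) (Ext.mapExactFunctor_extClass L hS')).trans
      (ShortComplex.ShortExact.extClass_naturality (hS'.map_of_exact L) hS
        ({ τ₁ := adj.counit.app S.X₁, τ₂ := adj.counit.app S.X₂, τ₃ := adj.counit.app S.X₃
           comm₁₂ := (adj.counit.naturality S.f).symm, comm₂₃ := (adj.counit.naturality S.g).symm } :
          (S.map R).map L ⟶ S))
  have hx' : (hof adj i S.X₃ 1 y).comp hS.extClass rfl = 0 :=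
    (hof_comp adj i 1 y hS'.extClass hS.extClass hn).symm.trans hx
  obtain ⟨z, hz⟩ := Ext.covariant_sequence_exact₃ ZA hS (hof adj i S.X₃ 1 y) (n₁ := 2) rfl hx'
  rw [Ext.eq_zero_of_injective z, Ext.zero_comp] at hz
  have : y = 0 := hof_injective_one adj i S.X₃ (hz.symm.trans (hof_zero adj i S.X₃ 1).symm)
  rw [this]
  exact map_zero (hS'.extClass.postcomp ZB (show 1 + 1 = 2 from rfl))

section Scheme

open AlgebraicGeometry

set_option backward.isDefEq.respectTransparency.types false

universe u₀

variable {X Y : Scheme.{u₀}} (f : X ⟶ Y) [PreservesFiniteLimits (EtCoh.pull f)] (F : EtCoh.Ab X)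

theorem hofPush_eq (p : ℕ) : ⇑(EtLim.HofPush f F p) =
    (haveI : (EtCoh.pull f).Additive := (EtCoh.pullPushAdj f).left_adjoint_additive
     haveI : (EtCoh.pull f).IsLeftAdjoint := (EtCoh.pullPushAdj f).isLeftAdjoint
     hof (EtCoh.pullPushAdj f) (EtCore.pullConst f ℤ).inv F p) :=
  funext fun _ => rfl

theorem hofPush_injective_one : Function.Injective (EtLim.HofPush f F 1) := by
  haveI : (EtCoh.pull f).Additive := (EtCoh.pullPushAdj f).left_adjoint_additive
  haveI : (EtCoh.pull f).IsLeftAdjoint := (EtCoh.pullPushAdj f).isLeftAdjoint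
  haveI : (EtCoh.push f).IsRightAdjoint := (EtCoh.pullPushAdj f).isRightAdjoint
  rw [hofPush_eq]
  exact hof_injective_one (EtCoh.pullPushAdj f) _ F

theorem hofPush_injective_two (P : InjectivePresentation F) (hP : Epi ((EtCoh.push f).map P.shortComplex.g)) :
    Function.Injective (EtLim.HofPush f F 2) := by
  haveI : (EtCoh.pull f).Additive := (EtCoh.pullPushAdj f).left_adjoint_additive
  haveI : (EtCoh.pull f).IsLeftAdjoint := (EtCoh.pullPushAdj f).isLeftAdjoint
  haveI : (EtCoh.push f).IsRightAdjoint := (EtCoh.pullPushAdj f).isRightAdjoint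
  rw [hofPush_eq]
  exact hof_injective_two (EtCoh.pullPushAdj f) _ F P hP

end Scheme

end Groth.Agent.BrauerXPoint
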