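import Groth.Agent.BrauerXPoint.GaloisLift
import Groth.Agent.BrauerXPoint.Torsion
import Groth.Agent.BrauerXPoint.EdgeInj

/-!
# `H^1` of sheaves pushed forward from a point
-/

universe u

open CategoryTheory CategoryTheory.Limits AlgebraicGeometry Opposite CategoryTheory.Abelian

namespace Groth.Agent.BrauerXPoint

open Groth.Agent.GalEt

set_option backward.isDefEq.respectTransparency.types false

variable {k : Type u} [Field k] {X : Scheme.{u}} (i : Spec (CommRingCat.of k) ⟶ X)

/-- direct image keeps an epimorphism when the kernel has trivial Galois `H^1` -/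
theorem epi_push_map [QuasiCompact i] (E : ShortComplex (EtCoh.Ab (Spec (CommRingCat.of k)))) (hE : E.ShortExact)
    (hB : ∀ (L : Type u) [Field L] [Algebra k L] [FiniteDimensional k L] [Algebra.IsSeparable k L],
      GalH1Trivial L ((EtShriek.restrAlong (π (extObj k L))).obj E.X₁)) :
    Epi ((EtCoh.push i).map E.g) := by
  refine (Sheaf.isLocallySurjective_iff_epi' _ _).1 ⟨fun {U} s => (EtFound.mem_topology_iff _).2 fun x => ?_⟩
  obtain ⟨W, hW, hxW, -⟩ := exists_isAffineOpen_mem_and_subset (TopologicalSpace.Opens.mem_top x)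
  haveI : IsAffine (EtFound.restrictEtale U W).left := hW
  obtain ⟨w, hw⟩ := exists_lift_compact ((EtCoh.bc i).obj (EtFound.restrictEtale U W)) E hE hB
    (((EtCoh.push i).obj E.X₃).obj.map (EtFound.restrictEtaleHom U W).op s)
  exact ⟨_, EtFound.restrictEtaleHom U W, ⟨x, hxW⟩, ⟨w, hw⟩, rfl⟩

theorem subsingleton_H_one_push [PreservesFiniteLimits (EtCoh.pull i)] (B : EtCoh.Ab (Spec (CommRingCat.of k)))
    (hB : GalH1Trivial k B) : Subsingleton (EtCoh.H X ((EtCoh.push i).obj B) 1) :=
  ⟨fun a b => hofPush_injective_one i B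
    ((H_one_eq_zero k B hB _).trans (H_one_eq_zero k B hB _).symm)⟩

theorem hofPush_Gm_injective_two [QuasiCompact i] [PreservesFiniteLimits (EtCoh.pull i)] :
    Function.Injective (EtLim.HofPush i (EtCoh.Gm (Spec (CommRingCat.of k))) 2) :=
  let P := Classical.arbitrary (InjectivePresentation (EtCoh.Gm (Spec (CommRingCat.of k))))
  hofPush_injective_two i _ P
    (epi_push_map i P.shortComplex P.shortExact_shortComplex fun L _ _ _ _ => galH1Trivial_restr_Gm L)

end Groth.Agent.BrauerXPoint
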