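import Groth.Agent.BrauerXPoint.Lift
import Groth.Agent.GalEt.H1
import Groth.Agent.GalEt.ConstSeq
import Mathlib.Algebra.Group.Torsion

/-!
# Exact lifting of sections over a field when Galois cocycles are coboundaries; constant sheaves
-/

universe u

open CategoryTheory CategoryTheory.Limits AlgebraicGeometry Opposite

namespace Groth.Agent.BrauerXPoint

open Groth.Agent.GalEt

set_option backward.isDefEq.respectTransparency.types false

variable {k : Type u} [Field k]

set_option maxHeartbeats 1000000 in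
theorem exists_lift_top (E : ShortComplex (EtCoh.Ab (Spec (CommRingCat.of k)))) (hE : E.ShortExact)
    (hB : GalH1Trivial k E.X₁) (s : EtCoh.sect E.X₃ (EtCoh.top (Spec (CommRingCat.of k)))) :
    ∃ w : EtCoh.sect E.X₂ (EtCoh.top (Spec (CommRingCat.of k))),
      E.g.hom.app (op (EtCoh.top (Spec (CommRingCat.of k)))) w = s := by
  let X := Spec (CommRingCat.of k)
  haveI := hE.epi_g
  haveI hls := (Sheaf.isLocallySurjective_iff_epi' _ E.g).2 inferInstance
  obtain ⟨V, g, v, ⟨t₀, ht₀⟩, -⟩ := (EtFound.mem_topology_iff _).1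
    (Presheaf.imageSieve_mem X.smallEtaleTopology E.g.hom (U := op (EtCoh.top X)) s)
    (default : Spec (CommRingCat.of k))
  obtain ⟨L, _, _, _, _, c₀, -, -⟩ := exists_extObj_through k v
  let M := galClosure k L
  let d : extObj k M ⟶ V := extMap (toGalClosure k L) ≫ c₀
  let T := extObj k M
  let t : E.X₂.obj.obj (op T) := E.X₂.obj.map d.op t₀
  have ht : E.g.hom.app (op T) t = E.X₃.obj.map (toTop T).op s := by
    refine (NatTrans.naturality_apply E.g.hom d.op t₀).trans ?_
    rw [ht₀, hom_comp_map E.X₃]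
    congr 4
    exact (EtCore.topIsTerminal X).hom_ext _ _
  -- left exactness of sections
  let secF := (sheafSections X.smallEtaleTopology AddCommGrpCat.{u + 1}).obj (op T)
  haveI : PreservesFiniteLimits secF :=
    haveI : PreservesFiniteLimits (sheafToPresheaf X.smallEtaleTopology AddCommGrpCat.{u + 1}) := inferInstance
    comp_preservesFiniteLimits (sheafToPresheaf X.smallEtaleTopology AddCommGrpCat.{u + 1})
      ((evaluation _ _).obj (op T))
  haveI : secF.Additive := ⟨fun {F G f g} => rfl⟩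
  have hex : (E.map secF).Exact ∧ Mono (E.map secF).f :=
    ((Functor.preservesFiniteLimits_tfae secF).out 3 0 rfl rfl).1 inferInstance E hE
  haveI := hex.2
  have hinj : Function.Injective (E.f.hom.app (op T)).hom := (AddCommGrpCat.mono_iff_injective _).1 hex.2
  have hker : ∀ σ : T ≅ T, ∃ b : EtCoh.sect E.X₁ T,
      E.f.hom.app (op T) b = E.X₂.obj.map σ.hom.op t - t := fun σ => by
    refine (ShortComplex.ab_exact_iff _).1 hex.1 _ ?_
    show E.g.hom.app (op T) (E.X₂.obj.map σ.hom.op t - t) = 0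
    rw [map_sub, ht]
    refine sub_eq_zero.2 ((NatTrans.naturality_apply E.g.hom σ.hom.op t).trans ?_)
    rw [ht, hom_comp_map E.X₃]
    congr 4
    exact (EtCore.topIsTerminal X).hom_ext _ _
  choose c hc using hker
  obtain ⟨b, hb⟩ := hB M c fun σ τ => hinj (by
    show E.f.hom.app (op T) _ = E.f.hom.app (op T) (E.X₁.obj.map σ.hom.op (c τ) + c σ)
    have e : E.f.hom.app (op T) (E.X₁.obj.map σ.hom.op (c τ)) = E.X₂.obj.map σ.hom.op (E.f.hom.app (op T) (c τ)) :=
      NatTrans.naturality_apply E.f.hom σ.hom.op (c τ)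
    rw [map_add, e, hc, hc, hc, map_sub, Iso.trans_hom]
    simp only [t, hom_comp_map E.X₂, Category.assoc]
    abel)
  obtain ⟨w, hw⟩ := (isGaloisObj_extObj (k := k) M).exists_descent_top E.X₂
    (t - E.f.hom.app (op T) b) fun σ => by
      have e : E.f.hom.app (op T) (E.X₁.obj.map σ.hom.op b) = E.X₂.obj.map σ.hom.op (E.f.hom.app (op T) b) :=
        NatTrans.naturality_apply E.f.hom σ.hom.op b
      have h1 := hc σ
      rw [hb, map_sub, e] at h1
      rw [map_sub]
      exact sub_eq_sub_iff_sub_eq_sub.2 h1.symm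
  refine ⟨w, ?_⟩
  apply (isGaloisObj_extObj (k := k) M).sect_ext E.X₃
  have e₁ : pr T (EtCoh.top X) = pr₂ T (EtCoh.top X) ≫ toTop T :=
    (EtCore.topIsTerminal X).hom_ext _ _
  rw [e₁, ← hom_comp_map E.X₃, ← hom_comp_map E.X₃]
  congr 1
  refine (NatTrans.naturality_apply E.g.hom (toTop T).op w).symm.trans ?_
  rw [hw, map_sub, ht]
  have z : E.g.hom.app (op T) (E.f.hom.app (op T) b) = 0 :=
    congrArg (fun m : E.X₁ ⟶ E.X₃ => m.hom.app (op T) b) E.zero
  rw [z, sub_zero]

set_option maxHeartbeats 1000000 in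
theorem exists_lift_extObj (L : Type u) [Field L] [Algebra k L] [FiniteDimensional k L]
    [Algebra.IsSeparable k L] (E : ShortComplex (EtCoh.Ab (Spec (CommRingCat.of k)))) (hE : E.ShortExact)
    (hB : GalH1Trivial L ((EtShriek.restrAlong (π (extObj k L))).obj E.X₁))
    (s : EtCoh.sect E.X₃ (extObj k L)) :
    ∃ w : EtCoh.sect E.X₂ (extObj k L), E.g.hom.app (op (extObj k L)) w = s := by
  let T := extObj k L
  haveI : (EtCoh.pull (π T)).IsLeftAdjoint := (EtCoh.pullPushAdj (π T)).isLeftAdjoint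
  haveI : (EtCoh.pull (π T)).Additive := (EtCoh.pullPushAdj (π T)).left_adjoint_additive
  haveI := EtFound.pull_preservesFiniteLimits (π T)
  haveI : (EtShriek.restrAlong (π T)).Additive := Functor.additive_of_iso (restrIso T).symm
  have hE' : (E.map (EtShriek.restrAlong (π T))).ShortExact :=
    ShortComplex.shortExact_of_iso (E.mapNatIso (restrIso T).symm) (hE.map_of_exact (EtCoh.pull (π T)))
  let e : (EtShriek.compEtale (π T)).obj (EtCoh.top T.left) ≅ T :=
    MorphismProperty.Over.isoMk (Iso.refl T.left) ((Category.id_comp _).trans (Category.id_comp _).symm)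
  let E' := E.map (EtShriek.restrAlong (π T))
  obtain ⟨w, hw⟩ := exists_lift_top (k := L) E' hE' hB
    (E.X₃.obj.map e.hom.op s)
  refine ⟨E.X₂.obj.map e.inv.op w, ?_⟩
  have hw' : E.g.hom.app (op ((EtShriek.compEtale (π T)).obj (EtCoh.top T.left))) w = E.X₃.obj.map e.hom.op s := hw
  refine (NatTrans.naturality_apply E.g.hom e.inv.op w).trans ?_
  rw [hw', hom_comp_map E.X₃, e.inv_hom_id, id_map]

theorem exists_lift_compact (T : (Spec (CommRingCat.of k)).Etale) [CompactSpace T.left]
    (E : ShortComplex (EtCoh.Ab (Spec (CommRingCat.of k)))) (hE : E.ShortExact)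
    (hB : ∀ (L : Type u) [Field L] [Algebra k L] [FiniteDimensional k L] [Algebra.IsSeparable k L],
      GalH1Trivial L ((EtShriek.restrAlong (π (extObj k L))).obj E.X₁))
    (s : EtCoh.sect E.X₃ T) : ∃ w : EtCoh.sect E.X₂ T, E.g.hom.app (op T) w = s := by
  haveI : AlgebraicGeometry.Etale T.hom := T.prop
  obtain ⟨ι, K, hF, hA, hK, e, he⟩ := S9714.forward (k := k) (T.hom : T.left ⟶ Spec (CommRingCat.of k))
  haveI := fun i => (hK i).1
  haveI := fun i => (hK i).2
  let c : ∀ i, Spec (CommRingCat.of (K i)) ⟶ T.left :=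
    fun i => Sigma.ι (fun i => Spec (CommRingCat.of (K i))) i ≫ e.inv
  let O : ι → T.left.Opens := fun i => (c i).opensRange
  have hd : ∀ a b, a ≠ b → Disjoint (O a) (O b) := fun a b hab => by
    rw [TopologicalSpace.Opens.coe_disjoint.symm, Set.disjoint_left]
    rintro z ⟨p, rfl⟩ ⟨q, hq⟩
    have h' := congrArg e.hom.base hq
    simp only [c, ← Scheme.Hom.comp_apply, Category.assoc, e.inv_hom_id, Category.comp_id] at h'
    exact Set.disjoint_left.1 (TopologicalSpace.Opens.coe_disjoint.2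
      (disjoint_opensRange_sigmaι (fun i => Spec (CommRingCat.of (K i))) a b hab)) ⟨p, rfl⟩ ⟨q, h'⟩
  have hO : (⨆ a, O a) = ⊤ := by
    refine top_le_iff.1 fun z _ => ?_
    obtain ⟨i, p, hp⟩ := (sigmaOpenCover fun i => Spec (CommRingCat.of (K i))).exists_eq (e.hom.base z)
    refine TopologicalSpace.Opens.mem_iSup.2 ⟨i, p, ?_⟩
    refine (Scheme.Hom.comp_apply _ _ _).trans ((congrArg e.inv.base hp).trans ?_)
    rw [← Scheme.Hom.comp_apply, e.hom_inv_id]
    rfl
  have hc : ∀ i, c i ≫ T.hom = Spec.map (CommRingCat.ofHom (algebraMap k (K i))) := fun i => by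
    rw [← he, Category.assoc, e.inv_hom_id_assoc]
    exact Sigma.ι_desc _ _
  let f : ∀ i, extObj k (K i) ≅ EtFound.restrictEtale T (O i) := fun i =>
    MorphismProperty.Over.isoMk (c i).isoOpensRange
      ((Category.assoc _ _ _).symm.trans ((congrArg (· ≫ T.hom) (Scheme.Hom.isoOpensRange_hom_ι (c i))).trans (hc i)))
  choose a ha using fun i => exists_lift_extObj (K i) E hE (hB (K i))
    (E.X₃.obj.map ((f i).hom ≫ EtFound.restrictEtaleHom T (O i)).op s)
  obtain ⟨S, hS⟩ := EtFound.exists_glue_disjoint E.X₂ T O hd hO fun i => E.X₂.obj.map (f i).inv.op (a i)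
  refine ⟨S, EtFound.eq_of_cover E.X₃ _ _ ((EtFound.mem_topology_iff _).2 fun z => ?_)⟩
  obtain ⟨i, hi⟩ := TopologicalSpace.Opens.mem_iSup.1 (hO.ge (TopologicalSpace.Opens.mem_top z))
  refine ⟨_, EtFound.restrictEtaleHom T (O i), ⟨z, hi⟩, ?_, rfl⟩
  show E.X₃.obj.map _ (E.g.hom.app _ S) = E.X₃.obj.map _ s
  rw [← NatTrans.naturality_apply, hS, NatTrans.naturality_apply, ha, hom_comp_map E.X₃, Iso.inv_hom_id_assoc]

theorem galH1Trivial_restr_Gm (L : Type u) [Field L] [Algebra k L] [FiniteDimensional k L]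
    [Algebra.IsSeparable k L] :
    GalH1Trivial L ((EtShriek.restrAlong (π (extObj k L))).obj (EtCoh.Gm (Spec (CommRingCat.of k)))) :=
  galH1Trivial_Gm L

/-- constant sheaves with torsion-free values have trivial `H^1` on a field -/
theorem galH1Trivial_const (A : Type) [AddCommGroup A] [IsAddTorsionFree A] :
    GalH1Trivial k (EtCoh.const (Spec (CommRingCat.of k)) A) := by
  intro M _ _ _ _ c hc
  let X := Spec (CommRingCat.of k)
  let T := extObj k M
  let A' : AddCommGrpCat.{u + 1} := AddCommGrpCat.of (ULift.{u + 1} A)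
  let P : X.Etaleᵒᵖ ⥤ AddCommGrpCat.{u + 1} := (Functor.const _).obj A'
  let η : P ⟶ sheafify X.smallEtaleTopology P := toSheafify X.smallEtaleTopology P
  let F := EtCoh.const X A
  have hη : ∀ {V W : X.Etale} (h : V ⟶ W) (m : A'), F.obj.map h.op (η.app (op W) m) = η.app (op V) m :=
    fun h m => (NatTrans.naturality_apply η h.op m).symm
  -- sections over `T` are constants
  have hconst : ∀ b : EtCoh.sect F T, ∃ m : A', b = η.app (op T) m := fun b => by
    obtain ⟨V, g, v, ⟨m, hm⟩, -⟩ := (EtFound.mem_topology_iff _).1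
      (Presheaf.imageSieve_mem X.smallEtaleTopology η (U := op T) b) (default : Spec (CommRingCat.of M))
    refine ⟨m, EtFound.eq_of_cover F _ _ ((EtFound.mem_topology_iff _).2 fun z => ?_)⟩
    refine ⟨V, g, v, ?_, Subsingleton.elim (α := Spec (CommRingCat.of M)) _ _⟩
    show F.obj.map g.op b = F.obj.map g.op (η.app (op T) m)
    rw [hη]
    exact hm.symm
  have htriv : ∀ (σ : T ≅ T) (b : EtCoh.sect F T), F.obj.map σ.hom.op b = b := fun σ b => by
    obtain ⟨m, rfl⟩ := hconst b
    exact hη _ _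
  have htf : ∀ (n : ℕ), n ≠ 0 → ∀ b : EtCoh.sect F T, n • b = 0 → b = 0 := fun n hn b h => by
    obtain ⟨m, rfl⟩ := hconst b
    have h' : η.app (op T) (n • m) = η.app (op T) 0 := by
      rw [map_zero]
      exact (map_nsmul (η.app (op T)).hom n m).trans h
    obtain ⟨V, g, v, hg, -⟩ := (EtFound.mem_topology_iff _).1
      (Presheaf.equalizerSieve_mem X.smallEtaleTopology η (X := op T) (n • m) 0 h')
      (default : Spec (CommRingCat.of M))
    have hm : n • m.down = 0 := congrArg ULift.down (show n • m = 0 from hg)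
    have : m = 0 := ULift.ext _ _ ((smul_eq_zero_iff_right hn).1 hm)
    rw [this]
    exact map_zero (η.app (op T)).hom
  haveI : Fintype (T ≅ T) := Fintype.ofInjective (fun σ => σ.hom) fun a b e => Iso.ext e
  have hadd : ∀ σ τ, c (σ ≪≫ τ) = c τ + c σ := fun σ τ => by rw [hc, htriv]
  refine ⟨0, fun σ => ?_⟩
  rw [map_zero, sub_zero]
  refine htf (Fintype.card (T ≅ T)) (haveI : Nonempty (T ≅ T) := ⟨Iso.refl T⟩; Fintype.card_ne_zero) _ ?_
  have h : ∑ τ, c (τ ≪≫ σ) = ∑ τ, c τ := Fintype.sum_equiv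
    { toFun := fun τ => τ ≪≫ σ, invFun := fun τ => τ ≪≫ σ.symm,
      left_inv := fun τ => by simp, right_inv := fun τ => by simp } _ _ fun τ => rfl
  simp only [hadd, Finset.sum_add_distrib, Finset.sum_const, Finset.card_univ] at h
  exact add_eq_right.1 h

end Groth.Agent.BrauerXPoint
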