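import Groth.Agent.GalEt.Killed
import Groth.Agent.GalEt.Field
import Groth.Agent.GalEt.H1
import Groth.Agent.EtFound.PropPush
import Groth.Agent.S9714

/-!
# Multiples of sections lift along epimorphisms of sheaves on a field
-/

universe u

open CategoryTheory CategoryTheory.Limits AlgebraicGeometry Opposite

namespace Groth.Agent.BrauerXPoint

open Groth.Agent.GalEt

set_option backward.isDefEq.respectTransparency.types false

variable {k : Type u} [Field k]

theorem exists_nsmul_lift_top {I G : EtCoh.Ab (Spec (CommRingCat.of k))} (g : I ⟶ G) [Epi g]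
    (s : EtCoh.sect G (EtCoh.top (Spec (CommRingCat.of k)))) :
    ∃ N : ℕ, 0 < N ∧ ∃ w : EtCoh.sect I (EtCoh.top (Spec (CommRingCat.of k))),
      g.hom.app (op (EtCoh.top (Spec (CommRingCat.of k)))) w = N • s := by
  let X := Spec (CommRingCat.of k)
  haveI hls := (Sheaf.isLocallySurjective_iff_epi' _ g).2 inferInstance
  obtain ⟨V, h, v, ⟨t₀, ht₀⟩, -⟩ := (EtFound.mem_topology_iff _).1
    (Presheaf.imageSieve_mem X.smallEtaleTopology g.hom (U := op (EtCoh.top X)) s)
    (default : Spec (CommRingCat.of k))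
  obtain ⟨L, _, _, _, _, c₀, -, -⟩ := exists_extObj_through k v
  let M := galClosure k L
  let T := extObj k M
  let d : T ⟶ V := extMap (toGalClosure k L) ≫ c₀
  let t : EtCoh.sect I T := I.obj.map d.op t₀
  have ht : g.hom.app (op T) t = G.obj.map (toTop T).op s := by
    refine (NatTrans.naturality_apply g.hom d.op t₀).trans ?_
    rw [ht₀, hom_comp_map G]
    congr 4
    exact (EtCore.topIsTerminal X).hom_ext _ _
  haveI : Fintype (T ≅ T) := Fintype.ofInjective (fun σ => σ.hom) fun a b e => Iso.ext e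
  have hM : IsGaloisObj T := isGaloisObj_extObj (k := k) M
  obtain ⟨w, hw⟩ := hM.exists_descent_top I (∑ σ : T ≅ T, I.obj.map σ.hom.op t) fun τ => by
    rw [map_sum]
    refine Fintype.sum_equiv
      { toFun := fun σ => τ ≪≫ σ, invFun := fun σ => τ.symm ≪≫ σ,
        left_inv := fun σ => by simp, right_inv := fun σ => by simp } _ _ fun σ => ?_
    rw [hom_comp_map I]
    rfl
  refine ⟨Fintype.card (T ≅ T), Fintype.card_pos_iff.2 ⟨Iso.refl _⟩, w, ?_⟩
  apply hM.sect_ext G
  have e₁ : pr T (EtCoh.top X) = pr₂ T (EtCoh.top X) ≫ toTop T :=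
    (EtCore.topIsTerminal X).hom_ext _ _
  rw [e₁, ← hom_comp_map G, ← hom_comp_map G]
  congr 1
  refine (NatTrans.naturality_apply g.hom (toTop T).op w).symm.trans ?_
  rw [hw, map_nsmul, map_sum]
  have hσ : ∀ σ : T ≅ T, g.hom.app (op T) (I.obj.map σ.hom.op t) = G.obj.map (toTop T).op s := fun σ => by
    refine (NatTrans.naturality_apply g.hom σ.hom.op t).trans ?_
    rw [ht, hom_comp_map G]
    congr 4
    exact (EtCore.topIsTerminal X).hom_ext _ _
  simp only [hσ, Finset.sum_const, Finset.card_univ]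

theorem exists_nsmul_lift_extObj (L : Type u) [Field L] [Algebra k L] [FiniteDimensional k L]
    [Algebra.IsSeparable k L] {I G : EtCoh.Ab (Spec (CommRingCat.of k))} (g : I ⟶ G) [Epi g]
    (s : EtCoh.sect G (extObj k L)) :
    ∃ N : ℕ, 0 < N ∧ ∃ w : EtCoh.sect I (extObj k L), g.hom.app (op (extObj k L)) w = N • s := by
  let T := extObj k L
  haveI : Epi ((EtCoh.pull (π T)).map g) :=
    haveI : (EtCoh.pull (π T)).IsLeftAdjoint := (EtCoh.pullPushAdj (π T)).isLeftAdjoint
    inferInstance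
  have hg : Epi ((EtShriek.restrAlong (π T)).map g) := by
    rw [← NatIso.naturality_2 (restrIso T) g]
    infer_instance
  let e : (EtShriek.compEtale (π T)).obj (EtCoh.top T.left) ≅ T :=
    MorphismProperty.Over.isoMk (Iso.refl T.left) ((Category.id_comp _).trans (Category.id_comp _).symm)
  obtain ⟨N, hN, w, hw⟩ := @exists_nsmul_lift_top L _ _ _ ((EtShriek.restrAlong (π T)).map g) hg
    (G.obj.map e.hom.op s)
  refine ⟨N, hN, I.obj.map e.inv.op w, ?_⟩
  have hw' : g.hom.app (op ((EtShriek.compEtale (π T)).obj (EtCoh.top T.left))) w = N • G.obj.map e.hom.op s := hw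
  refine (NatTrans.naturality_apply g.hom e.inv.op w).trans ?_
  rw [hw', map_nsmul, hom_comp_map G, e.inv_hom_id, id_map]

theorem exists_nsmul_lift_compact (T : (Spec (CommRingCat.of k)).Etale) [CompactSpace T.left]
    {I G : EtCoh.Ab (Spec (CommRingCat.of k))} (g : I ⟶ G) [Epi g] (s : EtCoh.sect G T) :
    ∃ N : ℕ, 0 < N ∧ ∃ w : EtCoh.sect I T, g.hom.app (op T) w = N • s := by
  haveI : AlgebraicGeometry.Etale T.hom := T.prop
  obtain ⟨ι, K, hF, hA, hK, e, he⟩ := S9714.forward (k := k) (T.hom : T.left ⟶ Spec (CommRingCat.of k))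
  haveI := fun i => (hK i).1
  haveI := fun i => (hK i).2
  let c : ∀ i, Spec (CommRingCat.of (K i)) ⟶ T.left :=
    fun i => Sigma.ι (fun i => Spec (CommRingCat.of (K i))) i ≫ e.inv
  let O : ι → T.left.Opens := fun i => (c i).opensRange
  have hd : ∀ a b, a ≠ b → Disjoint (O a) (O b) := fun a b hab => by
    rw [TopologicalSpace.Opens.coe_disjoint.symm, Set.disjoint_left]
    rintro z ⟨p, rfl⟩ ⟨q, hq⟩
    have h' := congrArg e.hom.base hq
    simp only [c, ← Scheme.Hom.comp_apply, Category.assoc, e.inv_hom_id, Category.comp_id] at h'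
    exact Set.disjoint_left.1 (TopologicalSpace.Opens.coe_disjoint.2
      (disjoint_opensRange_sigmaι (fun i => Spec (CommRingCat.of (K i))) a b hab)) ⟨p, rfl⟩ ⟨q, h'⟩
  have hO : (⨆ a, O a) = ⊤ := by
    refine top_le_iff.1 fun z _ => ?_
    obtain ⟨i, p, hp⟩ := (sigmaOpenCover fun i => Spec (CommRingCat.of (K i))).exists_eq (e.hom.base z)
    refine TopologicalSpace.Opens.mem_iSup.2 ⟨i, p, ?_⟩
    refine (Scheme.Hom.comp_apply _ _ _).trans ((congrArg e.inv.base hp).trans ?_)
    rw [← Scheme.Hom.comp_apply, e.hom_inv_id]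
    rfl
  haveI : Finite ι := by
    obtain ⟨S, hS⟩ := IsCompact.elim_finite_subcover CompactSpace.isCompact_univ (fun i => (O i : Set T.left))
      (fun i => (O i).2) (fun z _ => Set.mem_iUnion.2 (TopologicalSpace.Opens.mem_iSup.1 (hO.ge (TopologicalSpace.Opens.mem_top z))))
    refine Finite.of_injective (fun i => (⟨i, ?_⟩ : S)) fun a b h => congrArg Subtype.val h
    obtain ⟨j, hj, hz⟩ := Set.mem_iUnion₂.1 (hS (Set.mem_univ ((c i).base (default : Spec (CommRingCat.of (K i))))))
    by_contra hi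
    exact Set.disjoint_left.1 (TopologicalSpace.Opens.coe_disjoint.2 (hd i j fun h => hi (h ▸ hj))) ⟨_, rfl⟩ hz
  haveI := Fintype.ofFinite ι
  have hc : ∀ i, c i ≫ T.hom = Spec.map (CommRingCat.ofHom (algebraMap k (K i))) := fun i => by
    rw [← he, Category.assoc, e.inv_hom_id_assoc]
    exact Sigma.ι_desc _ _
  let f : ∀ i, extObj k (K i) ≅ EtFound.restrictEtale T (O i) := fun i =>
    MorphismProperty.Over.isoMk (c i).isoOpensRange
      ((Category.assoc _ _ _).symm.trans ((congrArg (· ≫ T.hom) (Scheme.Hom.isoOpensRange_hom_ι (c i))).trans (hc i)))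
  choose N hN a ha using fun i => exists_nsmul_lift_extObj (K i) g
    (G.obj.map ((f i).hom ≫ EtFound.restrictEtaleHom T (O i)).op s)
  let P := ∏ i, N i
  obtain ⟨S, hS⟩ := EtFound.exists_glue_disjoint I T O hd hO fun i => I.obj.map (f i).inv.op ((P / N i) • a i)
  refine ⟨P, Finset.prod_pos fun i _ => hN i, S, ?_⟩
  refine EtFound.eq_of_cover G _ _ ((EtFound.mem_topology_iff _).2 fun z => ?_)
  obtain ⟨i, hi⟩ := TopologicalSpace.Opens.mem_iSup.1 (hO.ge (TopologicalSpace.Opens.mem_top z))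
  refine ⟨_, EtFound.restrictEtaleHom T (O i), ⟨z, hi⟩, ?_, rfl⟩
  show G.obj.map _ (g.hom.app _ S) = G.obj.map _ (P • s)
  rw [← NatTrans.naturality_apply, hS, NatTrans.naturality_apply, map_nsmul, map_nsmul, ha, map_nsmul,
    map_nsmul, hom_comp_map G, Iso.inv_hom_id_assoc, ← mul_nsmul',
    Nat.div_mul_cancel (Finset.dvd_prod_of_mem N (Finset.mem_univ i))]

end Groth.Agent.BrauerXPoint
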